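import Groth.Agent.H26Dual.Pz
import Groth.Agent.H25Dual.Points

/-!
# Classes algebraically trivial on the fibres of an abelian scheme are primitive
-/

set_option autoImplicit false
set_option linter.style.haveILetI false
set_option linter.unusedSectionVars false
set_option backward.isDefEq.respectTransparency false
set_option synthInstance.maxHeartbeats 400000
universe u

open CategoryTheory CategoryTheory.Limits MonoidalCategory CartesianMonoidalCategory MonObj AlgebraicGeometry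
open Groth.Agent
open Groth.Agent.H25AbCube (PC pc pullP exists_rep pc_eq_iff pc_tensor pc_one pullP_pc pullP_pullP pullP_id)
open Groth.Agent.H25Dual (toCl toCl_pc)
open Groth.Agent.H25Theta (pb pT pC pI pO tI)

noncomputable section

namespace Groth.Agent.H26Dual

attribute [local instance] Functor.grpObjObj

variable {S : Scheme.{u}} {X Xt : Over S} [GrpObj X] [IsCommMonObj X] [GrpObj Xt] [IsProper X.hom]
  [Smooth X.hom] [GeometricallyIntegral X.hom]

/-- A fibrewise trivial class over a geometric point is translation invariant. -/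
theorem transl_geom {Ω : Type u} [Field Ω] [IsAlgClosed Ω] (σ : Spec (CommRingCat.of Ω) ⟶ S)
    (w : PC (X ⊗ Over.mk σ).left) (hw : PZ X (Over.mk σ) w) (y : Over.mk σ ⟶ X) :
    ev w (lift (fst X _ * (snd X _ ≫ y)) (snd X _)) = w := by
  obtain ⟨M, hM, rfl⟩ := exists_rep w
  unfold PZ at hw
  rw [toCl_pc] at hw
  obtain ⟨L, hLe, hL, hfib⟩ := hw
  obtain ⟨i⟩ := H12Pic.Sep.iso_of_cl_eq hLe
  let B : Over (Spec (CommRingCat.of Ω)) := (Over.pullback σ).obj X
  haveI : IsProper B.hom := MorphismProperty.pullback_snd X.hom σ inferInstance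
  haveI : GeometricallyIntegral B.hom := MorphismProperty.pullback_snd X.hom σ inferInstance
  haveI : Smooth B.hom := MorphismProperty.pullback_snd X.hom σ inferInstance
  haveI : IsCommMonObj B := H25AbCube.isCommMonObj_of_av
  haveI : Subsingleton ↥(Over.mk σ).left := inferInstanceAs (Subsingleton (PrimeSpectrum Ω))
  let p : Spec (CommRingCat.of Ω) ⟶ (Over.mk σ).left := 𝟙 _
  have halg := hfib (IsLocalRing.closedPoint Ω) Ω p (Set.ext fun x =>
    ⟨fun _ => Set.mem_singleton_iff.2 (Subsingleton.elim _ _), fun _ => ⟨x, rfl⟩⟩)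
  let k : B.left ⟶ pullback (PicF.XTproj X.hom (Over.mk σ)) p := pullback.lift (𝟙 _) B.hom (by
    rw [Category.id_comp]
    exact (Category.comp_id _).symm)
  have h1 := H25Dual.algEquiv_pullback _ B.hom k (pullback.lift_snd _ _ _) halg
  have h2 : @Pic13.IsAlgEquivZero Ω _ B.left ⟨B.hom⟩ M := by
    letI : B.left.Over (Spec (CommRingCat.of Ω)) := ⟨B.hom⟩
    exact H12Pic.CurveFam.algEquiv_congr (pC k _ (pullback.lift_fst _ _ _) L ≪≫ pI _ rfl L ≪≫ i) h1
  let a : 𝟙_ (Over (Spec (CommRingCat.of Ω))) ⟶ B := Over.homMk (pullback.lift y.left (𝟙 _) (by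
    rw [Category.id_comp]; exact Over.w y)) (pullback.lift_snd _ _ _)
  obtain ⟨e⟩ := Groth.Agent.S12008.result Ω B M hM h2 a
  let E := (Over.mapPullbackAdj σ).homEquiv B X
  have hmul : ∀ x z : (Over.map σ).obj B ⟶ X, E (x * z) = E x * E z := fun x z => by
    rw [Adjunction.homEquiv_unit, Adjunction.homEquiv_unit, Adjunction.homEquiv_unit]
    exact (congrArg _ (map_mul (Functor.homMonoidHom (Over.pullback σ)) x z)).trans (MonObj.comp_mul _ _ _)
  have hmul' : ∀ x z : B ⟶ B, E.symm (x * z) = E.symm x * E.symm z := fun x z => by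
    rw [Equiv.symm_apply_eq, hmul, Equiv.apply_symm_apply, Equiv.apply_symm_apply]
  have hs : ∀ b : B ⟶ B, (E.symm b).left = b.left ≫ pullback.fst X.hom σ := fun b => by
    simp [E, Adjunction.homEquiv_counit]
  let j : (Over.map σ).obj B ⟶ X ⊗ Over.mk σ := Over.homMk (𝟙 _) ((Category.id_comp _).trans pullback.condition)
  have h3 : E.symm (𝟙 B) = j ≫ fst X _ := Over.OverMorphism.ext ((hs _).trans (by rfl))
  have h4 : E.symm (toUnit B ≫ a) = j ≫ snd X _ ≫ y := Over.OverMorphism.ext ((hs _).trans (by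
    show (toUnit B).left ≫ a.left ≫ pullback.fst X.hom σ = (𝟙 _) ≫ pullback.snd X.hom σ ≫ y.left
    rw [show a.left ≫ pullback.fst X.hom σ = y.left from pullback.lift_fst _ _ _, Category.id_comp]
    rfl))
  have h5 : (𝟙 B * (toUnit B ≫ a)).left = (lift (fst X (Over.mk σ) * (snd X _ ≫ y)) (snd X _)).left := by
    refine pullback.hom_ext ?_ ?_
    · refine Eq.trans ?_ (congrArg Over.Hom.left (lift_fst (fst X (Over.mk σ) * (snd X _ ≫ y)) (snd X _))).symm
      rw [← hs, hmul', h3, h4, ← MonObj.comp_mul, Over.comp_left]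
      exact Category.id_comp _
    · exact (Over.w _).trans (congrArg Over.Hom.left (lift_snd (fst X (Over.mk σ) * (snd X _ ≫ y)) (snd X _))).symm
  show pullP _ (pc M hM) = _
  rw [← h5]
  have hi := H11Ample.isInvertible_pullback (𝟙 B * (toUnit B ≫ a)).left hM
  exact (pullP_pc _ M hM hi).symm.trans ((pc_eq_iff hi hM).2 ⟨e⟩)

/-- Pullback along any map over a map of the bases. -/
theorem pz_ev_over {A B T T' : Over S} (h : A ⊗ T' ⟶ B ⊗ T) (g : T' ⟶ T) (hh : h ≫ snd B T = snd A T' ≫ g)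
    {u : PC (B ⊗ T).left} (hu : PZ B T u) : PZ A T' (ev u h) := by
  unfold PZ at hu ⊢
  erw [H25Dual.toCl_pullP]
  exact H25Dual.picZero_pull (f := B.hom) (f' := A.hom) g _ (by
    show h.left ≫ (snd B T).left = (snd A T').left ≫ g.left
    rw [← Over.comp_left, ← Over.comp_left, hh]) hu

variable {φ : ∀ T : Over S, PicF.Cl (PicF.XT X.hom T) → (T ⟶ Xt)}
  (hφ : AbDual.IsDualAV Scheme.fppfPrecoverage X Xt φ)

include hφ in
/-- Translating the argument does not change the point of a class. -/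
theorem Φ_translate {T : Over S} {u : PC (X ⊗ T).left} (hu : PZ X T u) :
    Φ φ (X ⊗ T) (ev u (lift (fst X (X ⊗ T) * (snd X (X ⊗ T) ≫ fst X T)) (snd X (X ⊗ T) ≫ snd X T))) =
      snd X T ≫ Φ φ T u := by
  let G : X ⊗ (X ⊗ T) ⟶ X ⊗ T :=
    lift (fst X (X ⊗ T) * (snd X (X ⊗ T) ≫ fst X T)) (snd X (X ⊗ T) ≫ snd X T)
  have hG : PZ X (X ⊗ T) (ev u G) := pz_ev_over G (snd X T) (lift_snd _ _) hu
  let h' : X ⊗ T ⟶ Xt := Φ φ (X ⊗ T) (ev u G) / (snd X T ≫ Φ φ T u)
  have hpt : ∀ {Ω : Type u} [Field Ω] [IsAlgClosed Ω] (σ : Spec (CommRingCat.of Ω) ⟶ S)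
      (ξ : Over.mk σ ⟶ X ⊗ T), ξ ≫ h' = 1 := by
    intro Ω _ _ σ ξ
    rw [GrpObj.comp_div, ← Φ_nat hφ ξ hG, ← Category.assoc, ← Φ_nat hφ (ξ ≫ snd X T) hu, ev_comp,
      show (X ◁ ξ) ≫ G = lift (fst X _ * (snd X _ ≫ ξ ≫ fst X T)) (snd X _) ≫ X ◁ (ξ ≫ snd X T) by
        apply CartesianMonoidalCategory.hom_ext
        · simp [G, MonObj.comp_mul]
        · simp [G], ← ev_comp, transl_geom σ _ (pz_ev_left _ hu), div_self']
  have hsl : lift (1 : T ⟶ X) (𝟙 T) ≫ h' = 1 := by
    rw [GrpObj.comp_div, ← Φ_nat hφ (lift (1 : T ⟶ X) (𝟙 T)) hG, ← Category.assoc, lift_snd, Category.id_comp,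
      ev_comp, show (X ◁ lift (1 : T ⟶ X) (𝟙 T)) ≫ G = 𝟙 _ by
        apply CartesianMonoidalCategory.hom_ext
        · simp [G, MonObj.comp_mul, MonObj.comp_one]
        · simp [G], ev_id, div_self']
  let π : (X ⊗ T).left ⟶ T.left := (snd X T).left
  let e : T.left ⟶ (X ⊗ T).left := (lift (1 : T ⟶ X) (𝟙 T)).left
  haveI : IsProper π := MorphismProperty.pullback_snd X.hom T.hom inferInstance
  haveI : Flat π := MorphismProperty.pullback_snd X.hom T.hom inferInstance
  haveI : LocallyOfFinitePresentation π := MorphismProperty.pullback_snd X.hom T.hom inferInstance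
  haveI : GeometricallyIntegral π := MorphismProperty.pullback_snd X.hom T.hom inferInstance
  have he : e ≫ π = 𝟙 _ := by rw [← Over.comp_left, lift_snd]; rfl
  have hval : ∀ z : (X ⊗ T).left, h'.left z = η[Xt].left ((X ⊗ T).hom z) := by
    intro z
    let Ω := AlgebraicClosure ((X ⊗ T).left.residueField z)
    let ρ : Spec (CommRingCat.of Ω) ⟶ (X ⊗ T).left :=
      Spec.map (CommRingCat.ofHom (algebraMap ((X ⊗ T).left.residueField z) Ω)) ≫
        (X ⊗ T).left.fromSpecResidueField z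
    have hz : ρ (IsLocalRing.closedPoint Ω) = z := by
      rw [Scheme.Hom.comp_apply]; exact Scheme.fromSpecResidueField_apply _ _
    let ξ : Over.mk (ρ ≫ (X ⊗ T).hom) ⟶ X ⊗ T := Over.homMk ρ rfl
    have h := congrArg (fun m : Over.mk (ρ ≫ (X ⊗ T).hom) ⟶ Xt => m.left (IsLocalRing.closedPoint Ω))
      (hpt (ρ ≫ (X ⊗ T).hom) ξ)
    simp only [Hom.one_def, Over.comp_left, Scheme.Hom.comp_apply, H19Grp.unit_point_apply] at h
    rw [← hz]
    exact h.trans (congrArg η[Xt].left (Scheme.Hom.comp_apply ρ (X ⊗ T).hom _))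
  have := H19Grp.eq_of_const_fibre π e he h'.left (fun x => by
    rw [hval, hval]
    refine congrArg η[Xt].left ?_
    rw [← Scheme.Hom.comp_apply (lift (1 : T ⟶ X) (𝟙 T)).left, Over.w, ← Scheme.Hom.comp_apply, Over.w])
  have h1 : h' = 1 := by
    apply Over.OverMorphism.ext
    rw [this, ← Over.comp_left, ← Over.comp_left, hsl, MonObj.comp_one]
  exact div_eq_one.1 h1

include hφ in
/-- Rigidified fibrewise trivial classes are primitive. -/
theorem prim {T : Over S} {u : PC (X ⊗ T).left} (hu : PZ X T u)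
    (hr : ev u (lift (1 : T ⟶ X) (𝟙 T)) = 0) {W : Over S} (a b : W ⟶ X) (t : W ⟶ T) :
    ev u (lift (a * b) t) = ev u (lift a t) + ev u (lift b t) := by
  let G : X ⊗ (X ⊗ T) ⟶ X ⊗ T :=
    lift (fst X (X ⊗ T) * (snd X (X ⊗ T) ≫ fst X T)) (snd X (X ⊗ T) ≫ snd X T)
  have h1 : PZ X (X ⊗ T) (ev u G) := pz_ev_over G (snd X T) (lift_snd _ _) hu
  have h2 : PZ X (X ⊗ T) (ev u (X ◁ snd X T)) := pz_ev_left _ hu
  have h3 : PZ X (X ⊗ T) (ev u (snd X (X ⊗ T))) := pz_base u
  have key : ev u G - ev u (snd X (X ⊗ T)) = ev u (X ◁ snd X T) := by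
    refine rig_eq hφ (pz_sub h1 h3) h2 ?_ ?_
    · rw [ev_sub, ev_comp, ev_comp, ev_comp,
        show lift (1 : X ⊗ T ⟶ X) (𝟙 _) ≫ G = 𝟙 _ by
          apply CartesianMonoidalCategory.hom_ext
          · simp [G, MonObj.comp_mul]
          · simp [G],
        lift_snd, sub_self,
        show lift (1 : X ⊗ T ⟶ X) (𝟙 _) ≫ X ◁ snd X T = snd X T ≫ lift (1 : T ⟶ X) (𝟙 T) by
          apply CartesianMonoidalCategory.hom_ext <;> simp [MonObj.comp_one],
        ← ev_comp, hr]
      exact (map_zero _).symm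
    · rw [Φ_sub hφ h1 h3, Φ_base hφ, div_one, Φ_translate hφ hu, Φ_nat hφ (snd X T) hu]
  have h := congrArg (fun z => ev z (lift a (lift b t))) key
  simp only [ev_sub, ev_comp] at h
  rw [show lift a (lift b t) ≫ G = lift (a * b) t by
      apply CartesianMonoidalCategory.hom_ext
      · simp [G, MonObj.comp_mul]
      · simp [G],
    lift_snd,
    show lift a (lift b t) ≫ X ◁ snd X T = lift a t by
      apply CartesianMonoidalCategory.hom_ext <;> simp] at h
  exact (sub_eq_iff_eq_add.1 h)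

end Groth.Agent.H26Dual
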