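import Groth.Agent.H25Dual.Classes
import Groth.Agent.S12008
import Groth.Agent.H19Grp.AbSchemeRigid
import Groth.Agent.H25AbCube.HomFG
import Groth.Prelude.Def_AbDual

/-!
# Points of a dual over any base through the group of invertible classes
-/

set_option autoImplicit false
set_option linter.style.haveILetI false
set_option linter.unusedSectionVars false
set_option backward.isDefEq.respectTransparency false
universe u

open CategoryTheory CategoryTheory.Limits MonoidalCategory CartesianMonoidalCategory MonObj AlgebraicGeometry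
open Groth.Agent
open Groth.Agent.H25AbCube (PC pc pullP exists_rep pc_eq_iff pc_tensor pc_one pullP_pc pullP_pullP pullP_id)
open Groth.Agent.H25Dual (toCl toCl_pc toCl_pullP picZero_pull picZero_structure picZero_tensor algEquiv_inverse)
open Groth.Agent.H25Theta (pb pT pC pI pO tI)

noncomputable section

namespace Groth.Agent.H26Dual

/-- The value of a class at a point with values in `T`. -/
def ev {S : Scheme.{u}} {T A : Over S} (L : PC A.left) (f : T ⟶ A) : PC T.left := pullP f.left L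

theorem ev_comp {S : Scheme.{u}} {T T' A : Over S} (L : PC A.left) (g : T' ⟶ T) (f : T ⟶ A) :
    ev (ev L f) g = ev L (g ≫ f) := by
  simp only [ev, pullP_pullP, Over.comp_left]

theorem ev_add {S : Scheme.{u}} {T A : Over S} (L L' : PC A.left) (f : T ⟶ A) :
    ev (L + L') f = ev L f + ev L' f := map_add _ _ _

theorem ev_sub {S : Scheme.{u}} {T A : Over S} (L L' : PC A.left) (f : T ⟶ A) :
    ev (L - L') f = ev L f - ev L' f := map_sub _ _ _

theorem ev_id {S : Scheme.{u}} {A : Over S} (L : PC A.left) : ev L (𝟙 A) = L := pullP_id L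

variable {S : Scheme.{u}} {A At T T' : Over S}

/-- An invertible class algebraically trivial on the fibres. -/
def PZ (A T : Over S) (u : PC (A ⊗ T).left) : Prop :=
  AbDual.IsPicZeroCl A.hom T (toCl (X := PicF.XT A.hom T) u)

theorem pz_pc {M : (PicF.XT A.hom T).Modules} (hM : PicF.IsInvertible M)
    (h : AbDual.IsPicZeroCl A.hom T (PicF.cl M)) : PZ A T (pc M hM) := by
  unfold PZ; rw [toCl_pc]; exact h

theorem pz_zero : PZ A T 0 := by
  have h : (0 : PC (A ⊗ T).left) = pc (Coh.structureModule (PicF.XT A.hom T)) H11Ample.isInvertible_structureModule :=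
    pc_one.symm
  rw [h]
  exact pz_pc _ (picZero_structure T)

theorem pz_add {u v : PC (A ⊗ T).left} (hu : PZ A T u) (hv : PZ A T v) : PZ A T (u + v) := by
  obtain ⟨M, hM, rfl⟩ := exists_rep u
  obtain ⟨N, hN, rfl⟩ := exists_rep v
  rw [← pc_tensor hM hN (H11Ample.isInvertible_tensor hM hN)]
  unfold PZ at hu hv
  rw [toCl_pc] at hu hv
  exact pz_pc _ (picZero_tensor (f := A.hom) hu hv)

theorem pz_neg {u : PC (A ⊗ T).left} (hu : PZ A T u) : PZ A T (-u) := by
  obtain ⟨M, hM, rfl⟩ := exists_rep u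
  obtain ⟨N, hN, hNu⟩ := exists_rep (-pc M hM)
  rw [← hNu]
  have e : Nonempty (CohB1.tensorMod N M ≅ Coh.structureModule _) := (pc_eq_iff
    (H11Ample.isInvertible_tensor hN hM) H11Ample.isInvertible_structureModule).1
      (by rw [pc_tensor hN hM, hNu, neg_add_cancel, pc_one])
  obtain ⟨e⟩ := e
  unfold PZ at hu
  rw [toCl_pc] at hu
  obtain ⟨M', hM'e, hM', hfib⟩ := hu
  obtain ⟨i⟩ := H12Pic.Sep.iso_of_cl_eq hM'e
  refine pz_pc hN ⟨N, rfl, hN, fun t Ω _ _ σ hσ => ?_⟩
  letI : (pullback (PicF.XTproj A.hom T) σ).Over (Spec (CommRingCat.of Ω)) := ⟨pullback.snd _ _⟩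
  exact algEquiv_inverse (hfib t Ω σ hσ) (H11Ample.isInvertible_pullback _ hM')
    ((pT _ N M').symm ≪≫ (Scheme.Modules.pullback _).mapIso (tI (Iso.refl N) i ≪≫ e) ≪≫ pO _)

theorem pz_sub {u v : PC (A ⊗ T).left} (hu : PZ A T u) (hv : PZ A T v) : PZ A T (u - v) := by
  rw [sub_eq_add_neg]; exact pz_add hu (pz_neg hv)

theorem pz_ev_left (g : T' ⟶ T) {u : PC (A ⊗ T).left} (hu : PZ A T u) : PZ A T' (ev u (A ◁ g)) := by
  unfold PZ at hu ⊢
  erw [toCl_pullP]
  exact picZero_pull (f := A.hom) g _ (by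
    show (A ◁ g).left ≫ (snd A T).left = (snd A T').left ≫ g.left
    rw [← Over.comp_left, ← Over.comp_left, whiskerLeft_snd]) hu

theorem pz_ev_right {B : Over S} (f : A ⟶ B) {u : PC (B ⊗ T).left} (hu : PZ B T u) :
    PZ A T (ev u (f ▷ T)) := by
  unfold PZ at hu ⊢
  erw [toCl_pullP]
  exact picZero_pull (f := B.hom) (f' := A.hom) (𝟙 T) _ (by
    show (f ▷ T).left ≫ (snd B T).left = (snd A T).left ≫ (𝟙 T : T ⟶ T).left
    rw [← Over.comp_left, ← Over.comp_left, whiskerRight_snd, Category.comp_id]) hu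

/-- Classes from the base are algebraically trivial on the fibres. -/
theorem pz_base (v : PC T.left) : PZ A T (ev v (snd A T)) := by
  obtain ⟨M, hM, rfl⟩ := exists_rep v
  rw [ev, ← pullP_pc _ M hM (H11Ample.isInvertible_pullback _ hM)]
  refine pz_pc _ ⟨_, rfl, H11Ample.isInvertible_pullback _ hM, fun t Ω _ _ σ _ => ?_⟩
  letI : (pullback (PicF.XTproj A.hom T) σ).Over (Spec (CommRingCat.of Ω)) := ⟨pullback.snd _ _⟩
  haveI : Subsingleton ↥(Spec (CommRingCat.of Ω)) := inferInstanceAs (Subsingleton (PrimeSpectrum Ω))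
  haveI : Nonempty ↥(Spec (CommRingCat.of Ω)) := inferInstanceAs (Nonempty (PrimeSpectrum Ω))
  obtain ⟨c⟩ := H25Theta.nonempty_iso_of_subsingleton (H11Ample.isInvertible_pullback σ hM)
  exact H12Pic.CurveFam.algEquiv_congr
    (pC (pullback.fst (PicF.XTproj A.hom T) σ) (PicF.XTproj A.hom T) pullback.condition M ≪≫
      (pC (pullback.snd _ _) σ rfl M).symm ≪≫ (Scheme.Modules.pullback _).mapIso c ≪≫ pO _).symm
    H12Pic.CurveFam.algEquiv_structure

variable {φ : ∀ T : Over S, PicF.Cl (PicF.XT A.hom T) → (T ⟶ At)}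

/-- The point of a class. -/
def Φ (φ : ∀ T : Over S, PicF.Cl (PicF.XT A.hom T) → (T ⟶ At))
    (T : Over S) (u : PC (A ⊗ T).left) : T ⟶ At := φ T (toCl (X := PicF.XT A.hom T) u)

theorem Φ_pc (T : Over S) (M : (PicF.XT A.hom T).Modules) (hM : PicF.IsInvertible M) :
    Φ φ T (pc M hM) = φ T (PicF.cl M) := by
  show φ T (toCl (pc M hM)) = _
  rw [toCl_pc]

variable [GrpObj At] (hφ : AbDual.IsDualAV Scheme.fppfPrecoverage A At φ)

include hφ in
theorem Φ_add {u v : PC (A ⊗ T).left} (hu : PZ A T u) (hv : PZ A T v) : Φ φ T (u + v) = Φ φ T u * Φ φ T v := by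
  obtain ⟨M, hM, rfl⟩ := exists_rep u
  obtain ⟨N, hN, rfl⟩ := exists_rep v
  rw [← pc_tensor hM hN (H11Ample.isInvertible_tensor hM hN)]
  unfold PZ at hu hv
  rw [toCl_pc] at hu hv
  show φ T (toCl _) = φ T (toCl _) * φ T (toCl _)
  rw [toCl_pc, toCl_pc, toCl_pc]
  exact hφ.mul T M N hu hv

include hφ in
theorem Φ_zero : Φ φ T 0 = 1 := by
  have h := Φ_add hφ (T := T) pz_zero pz_zero
  rw [add_zero] at h
  exact mul_eq_right.1 h.symm

include hφ in
theorem Φ_sub {u v : PC (A ⊗ T).left} (hu : PZ A T u) (hv : PZ A T v) : Φ φ T (u - v) = Φ φ T u / Φ φ T v := by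
  have h := Φ_add hφ (pz_sub hu hv) hv
  rw [sub_add_cancel] at h
  exact eq_div_iff_mul_eq'.2 h.symm

include hφ in
theorem Φ_nat (g : T' ⟶ T) {u : PC (A ⊗ T).left} (hu : PZ A T u) : Φ φ T' (ev u (A ◁ g)) = g ≫ Φ φ T u := by
  obtain ⟨M, hM, rfl⟩ := exists_rep u
  unfold PZ at hu
  show φ T' (toCl (pullP (A ◁ g).left _)) = g ≫ φ T (toCl _)
  erw [toCl_pullP, toCl_pc]
  rw [toCl_pc] at hu
  have h := hφ.relPic.natural T T' g _ hu
  unfold PicF.XTmap at h
  rw [← h]
  congr 2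

include hφ in
/-- Classes from the base have trivial point. -/
theorem Φ_base (v : PC T.left) : Φ φ T (ev v (snd A T)) = 1 := by
  obtain ⟨M, hM, rfl⟩ := exists_rep v
  have hM' := hM
  choose V hV ν using hM'
  refine Over.OverMorphism.ext ((Scheme.openCoverOfIsOpenCover T.left V
    (TopologicalSpace.IsOpenCover.mk (top_le_iff.1 fun x _ => TopologicalSpace.Opens.mem_iSup.2 ⟨x, hV x⟩))).hom_ext
      _ _ fun x => ?_)
  let h := AbDual.ovrHom T (V x).ι
  have h1 := Φ_nat hφ h (pz_base (A := A) (pc M hM))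
  rw [show ev (ev (pc M hM) (snd A T)) (A ◁ h) = ev (ev (pc M hM) h) (snd A _) by
    rw [ev_comp, ev_comp, whiskerLeft_snd], show ev (pc M hM) h = 0 from by
      rw [ev, ← pullP_pc _ M hM (H11Ample.isInvertible_pullback _ hM), ← pc_one]
      exact (pc_eq_iff _ _).2 ⟨((Scheme.Modules.restrictFunctorIsoPullback (V x).ι).app M).symm ≪≫ (ν x).some⟩,
    show ev (0 : PC (AbDual.ovr T (V x).ι).left) (snd A _) = 0 from map_zero _, Φ_zero hφ] at h1
  have h2 : h ≫ Φ φ T (ev (pc M hM) (snd A T)) = h ≫ 1 := by rw [← h1, MonObj.comp_one]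
  exact congrArg CommaMorphism.left h2

/-- The transpose, on classes. -/
theorem Φ_transpose {B Bt : Over S} [GrpObj Bt]
    {φB : ∀ T : Over S, PicF.Cl (PicF.XT B.hom T) → (T ⟶ Bt)}
    {f : A ⟶ B} {ft : Bt ⟶ At} (hft : AbDual.IsTranspose f φ φB ft) {u : PC (B ⊗ T).left} (hu : PZ B T u) :
    Φ φ T (ev u (f ▷ T)) = Φ φB T u ≫ ft := by
  show φ T (toCl (pullP (f ▷ T).left u)) = φB T (toCl u) ≫ ft
  erw [toCl_pullP]
  rw [← hft T _ hu]
  congr 2

variable [GrpObj A] [IsProper A.hom] [Flat A.hom] [LocallyOfFinitePresentation A.hom]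
  [GeometricallyIntegral A.hom]

theorem isIso_XTproj_app (T : Over S) (U : T.left.Opens) : IsIso ((PicF.XTproj A.hom T).app U) := by
  haveI : GeometricallyIntegral (PicF.XTproj A.hom T) := inferInstance
  exact LeadBC.GenBC.isIso_app_of_fibres _ (fun t => H12Pic.isIso_appTop_fiber_of_geomIntegral _ t) U

theorem secT_eq (T : Over S) :
    PicF.secT A.hom η[A].left (Over.w η[A]) T = (lift (1 : T ⟶ A) (𝟙 T)).left := by
  refine pullback.hom_ext ?_ ?_
  · rw [PicF.secT, pullback.lift_fst, show pullback.fst A.hom T.hom = (fst A T).left from rfl, ← Over.comp_left,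
      lift_fst]
    rfl
  · rw [PicF.secT, pullback.lift_snd, show pullback.snd A.hom T.hom = (snd A T).left from rfl, ← Over.comp_left,
      lift_snd]
    rfl

include hφ in
/-- Classes with the same point and the same restriction to the unit section are equal. -/
theorem rig_eq {u v : PC (A ⊗ T).left} (hu : PZ A T u) (hv : PZ A T v)
    (hr : ev u (lift (1 : T ⟶ A) (𝟙 T)) = ev v (lift (1 : T ⟶ A) (𝟙 T)))
    (h : Φ φ T u = Φ φ T v) : u = v := by
  have hw : PZ A T (u - v) := pz_sub hu hv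
  have hw1 : Φ φ T (u - v) = Φ φ T 0 := by rw [Φ_sub hφ hu hv, h, div_self', Φ_zero hφ]
  have hw0 : ev (u - v) (lift (1 : T ⟶ A) (𝟙 T)) = 0 := by rw [ev_sub, hr, sub_self]
  rw [← sub_eq_zero]
  obtain ⟨M, hM, hMe⟩ := exists_rep (u - v)
  rw [← hMe] at hw hw1 hw0 ⊢
  rw [← pc_one] at hw1 ⊢
  unfold PZ at hw
  rw [toCl_pc] at hw
  change φ T (toCl (X := PicF.XT A.hom T) (pc M hM)) = φ T (toCl (X := PicF.XT A.hom T) _) at hw1
  erw [toCl_pc, toCl_pc] at hw1
  obtain ⟨R, hR, hR'⟩ := hφ.relPic.locallyInjective T _ _ hw (picZero_structure T) hw1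
  obtain ⟨U, w, hw', -, hf, hp, hs⟩ := H12Pic.RigPoints.exists_member hR
  have h0 : PicF.IsTrivialCl (PicF.pullCl (PicF.secT A.hom η[A].left (Over.w η[A]) T) (PicF.cl M)) := by
    rw [ev, ← pullP_pc _ M hM (H11Ample.isInvertible_pullback _ hM), ← pc_one] at hw0
    obtain ⟨e⟩ := (pc_eq_iff _ _).1 hw0
    exact Quot.sound ⟨(Scheme.Modules.pullbackCongr (secT_eq T)).app M ≪≫ e⟩
  let c : PicF.Rig A.hom η[A].left (Over.w η[A]) T := ⟨PicF.cl M, ⟨M, rfl, hM⟩, h0⟩
  let d : PicF.Rig A.hom η[A].left (Over.w η[A]) T :=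
    ⟨PicF.cl (Coh.structureModule _), ⟨_, rfl, H11Ample.isInvertible_structureModule⟩, Quot.sound ⟨pO _⟩⟩
  have := H12Pic.RigDescent.eq_of_cover A.hom (Over.w η[A]) isIso_XTproj_app T (Sigma.desc w) c d
    (H12Pic.RigPoints.pullCl_eq_sigma A.hom T w c.2.1 d.2.1 fun j => hR' (w j) (hw' j))
  exact (pc_eq_iff hM _).2 (H12Pic.Sep.iso_of_cl_eq (congrArg Subtype.val this))

end Groth.Agent.H26Dual
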