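import Groth.Agent.H26Dual.Prim

/-!
# Additivity of the transpose and morphisms out of a dual
-/

set_option autoImplicit false
set_option linter.style.haveILetI false
set_option linter.unusedSectionVars false
set_option backward.isDefEq.respectTransparency false
universe u

open CategoryTheory CategoryTheory.Limits MonoidalCategory CartesianMonoidalCategory MonObj AlgebraicGeometry
open Groth.Agent
open Groth.Agent.H25AbCube (PC pc pullP exists_rep pc_eq_iff pc_tensor pc_one pullP_pc pullP_pullP pullP_id)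
open Groth.Agent.H25Dual (toCl toCl_pc toCl_pullP)

noncomputable section

namespace Groth.Agent.H26Dual

variable {S : Scheme.{u}}

theorem symm_eq (X Y : Over S) :
    (pullbackSymmetry X.hom Y.hom).hom = (lift (snd X Y) (fst X Y)).left := by
  refine pullback.hom_ext ?_ ?_
  · rw [pullbackSymmetry_hom_comp_fst, show pullback.fst Y.hom X.hom = (fst Y X).left from rfl, ← Over.comp_left,
      lift_fst]
    rfl
  · rw [pullbackSymmetry_hom_comp_snd, show pullback.snd Y.hom X.hom = (snd Y X).left from rfl, ← Over.comp_left,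
      lift_snd]
    rfl

theorem bcMap_eq {A B : Over S} (f : A ⟶ B) (T : Over S) : AbDual.bcMap f T = (f ▷ T).left := by
  refine pullback.hom_ext ?_ ?_
  · rw [AbDual.bcMap, pullback.lift_fst, show pullback.fst B.hom T.hom = (fst B T).left from rfl, ← Over.comp_left,
      whiskerRight_fst]
    rfl
  · rw [AbDual.bcMap, pullback.lift_snd, show pullback.snd B.hom T.hom = (snd B T).left from rfl, ← Over.comp_left,
      whiskerRight_snd, Category.comp_id]
    rfl

/-- A class in `Pic⁰` as an element of the group. -/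
theorem exists_pz {A T : Over S} {c : PicF.Cl (PicF.XT A.hom T)} (hc : AbDual.IsPicZeroCl A.hom T c) :
    ∃ u : PC (A ⊗ T).left, PZ A T u ∧ toCl (X := PicF.XT A.hom T) u = c := by
  obtain ⟨L, rfl, hL, hfib⟩ := hc
  exact ⟨pc L hL, pz_pc hL ⟨L, rfl, hL, hfib⟩, toCl_pc L hL⟩

variable {X Y Xt Yt : Over S} {φX : ∀ T : Over S, PicF.Cl (PicF.XT X.hom T) → (T ⟶ Xt)}
  {φY : ∀ T : Over S, PicF.Cl (PicF.XT Y.hom T) → (T ⟶ Yt)}

theorem isTranspose_of {f : X ⟶ Y} {ft : Yt ⟶ Xt}
    (h : ∀ (T : Over S) (u : PC (Y ⊗ T).left), PZ Y T u → Φ φX T (ev u (f ▷ T)) = Φ φY T u ≫ ft) :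
    AbDual.IsTranspose f φX φY ft := by
  intro T c hc
  obtain ⟨u, hu, rfl⟩ := exists_pz hc
  refine Eq.trans ?_ (h T u hu)
  show _ = φX T (toCl (pullP (f ▷ T).left u))
  erw [toCl_pullP]
  rw [bcMap_eq]

variable [GrpObj Xt] [GrpObj Yt] (hX : AbDual.IsDualAV Scheme.fppfPrecoverage X Xt φX)
  (hY : AbDual.IsDualAV Scheme.fppfPrecoverage Y Yt φY)

include hY in
/-- Morphisms out of a dual are determined by their values on classes. -/
theorem hom_ext_dual {Z : Over S} {f g : Yt ⟶ Z}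
    (h : ∀ (T : Over S) (u : PC (Y ⊗ T).left), PZ Y T u → Φ φY T u ≫ f = Φ φY T u ≫ g) : f = g := by
  obtain ⟨R, hR, hR'⟩ := hY.relPic.locallySurjective Yt (𝟙 Yt)
  obtain ⟨U, v, hv, -, hfl, hlfp, hsurj⟩ := H12Pic.RigPoints.exists_member hR
  haveI := Flat.epi_of_flat_of_surjective (Sigma.desc v)
  apply Over.OverMorphism.ext
  rw [← cancel_epi (Sigma.desc v)]
  refine Sigma.hom_ext _ _ fun j => ?_
  rw [Sigma.ι_desc_assoc, Sigma.ι_desc_assoc]
  obtain ⟨c, hc, hφc⟩ := hR' (v j) (hv j)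
  obtain ⟨u, hu, rfl⟩ := exists_pz hc
  have h1 := h _ u hu
  rw [show Φ φY _ u = AbDual.ovrHom Yt (v j) from hφc.trans (Category.comp_id _)] at h1
  exact congrArg CommaMorphism.left h1

variable [GrpObj Y] [IsCommMonObj Y] [IsProper Y.hom] [Smooth Y.hom] [GeometricallyIntegral Y.hom]

include hX in
/-- The trivial homomorphism pulls every class back to a trivial one. -/
theorem Φ_one_right {T : Over S} (u : PC (Y ⊗ T).left) :
    Φ φX T (ev u ((1 : X ⟶ Y) ▷ T)) = 1 := by
  rw [show (1 : X ⟶ Y) ▷ T = snd X T ≫ lift (1 : T ⟶ Y) (𝟙 T) by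
    apply CartesianMonoidalCategory.hom_ext <;> simp [MonObj.comp_one], ← ev_comp, Φ_base hX]

include hX hY in
/-- Pullback along homomorphisms is additive on points of the dual. -/
theorem Φ_mul_right {T : Over S} {u : PC (Y ⊗ T).left} (hu : PZ Y T u) (f g : X ⟶ Y) :
    Φ φX T (ev u ((f * g) ▷ T)) = Φ φX T (ev u (f ▷ T)) * Φ φX T (ev u (g ▷ T)) := by
  let r : PC T.left := ev u (lift (1 : T ⟶ Y) (𝟙 T))
  have hu' : PZ Y T (u - ev r (snd Y T)) := pz_sub hu (pz_base r)
  have hr : ev (u - ev r (snd Y T)) (lift (1 : T ⟶ Y) (𝟙 T)) = 0 := by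
    rw [ev_sub, ev_comp, lift_snd, ev_id, sub_self]
  have h := prim hY hu' hr (fst X T ≫ f) (fst X T ≫ g) (snd X T)
  have e : ∀ k : X ⟶ Y, lift (fst X T ≫ k) (snd X T) = k ▷ T := fun k => by
    apply CartesianMonoidalCategory.hom_ext <;> simp
  rw [← MonObj.comp_mul, e, e, e] at h
  simp only [ev_sub, ev_comp, whiskerRight_snd_assoc, whiskerRight_snd] at h
  have h2 : ev u ((f * g) ▷ T) = ev u (f ▷ T) + ev u (g ▷ T) - ev r (snd X T) :=
    (sub_eq_iff_eq_add.1 h).trans (by simp only [r, ev_comp]; abel)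
  have hf := pz_ev_right (T := T) f hu
  have hg := pz_ev_right (T := T) g hu
  rw [h2, Φ_sub hX (pz_add hf hg) (pz_base r), Φ_base hX, div_one, Φ_add hX hf hg]

end Groth.Agent.H26Dual
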