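import Groth.Agent.H26Dual.Poincare
import Groth.Agent.H25AbCube.TorsionStr

/-!
# Graphs of polarisations
-/

set_option autoImplicit false
set_option linter.style.haveILetI false
set_option linter.unusedSectionVars false
set_option backward.isDefEq.respectTransparency false
set_option backward.isDefEq.respectTransparency.types false
set_option synthInstance.maxHeartbeats 400000
universe u

open CategoryTheory CategoryTheory.Limits MonoidalCategory CartesianMonoidalCategory MonObj AlgebraicGeometry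
open Groth.Agent
open Groth.Agent.H25AbCube (PC pc pullP exists_rep pc_eq_iff pc_tensor pc_one pullP_pc pullP_pullP pullP_id)

noncomputable section

namespace Groth.Agent.H26Dual

attribute [local instance] Functor.grpObjObj

variable {S : Scheme.{u}} {A At : Over S} [GrpObj A] [IsCommMonObj A] [GrpObj At] [IsCommMonObj At]
  [IsProper A.hom] [Smooth A.hom] [GeometricallyIntegral A.hom]

theorem pow_comp_hom {T B C : Over S} [GrpObj B] [GrpObj C] (f : B ⟶ C) [IsMonHom f] (y : T ⟶ B) :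
    ∀ n : ℕ, (y ^ n) ≫ f = (y ≫ f) ^ n
  | 0 => by rw [pow_zero, pow_zero, MonObj.one_comp]
  | n + 1 => by rw [pow_succ, pow_succ, MonObj.mul_comp, pow_comp_hom f y n]

theorem comp_pow_hom {T W B : Over S} [GrpObj B] (y : T ⟶ W) (f : W ⟶ B) :
    ∀ n : ℕ, y ≫ f ^ n = (y ≫ f) ^ n
  | 0 => by rw [pow_zero, pow_zero, MonObj.comp_one]
  | n + 1 => by rw [pow_succ, pow_succ, MonObj.comp_mul, comp_pow_hom y f n]

/-- Geometric points of an abelian scheme are divisible. -/
theorem exists_pow_eq_geom {Ω : Type u} [Field Ω] [IsAlgClosed Ω] (σ : Spec (CommRingCat.of Ω) ⟶ S)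
    (x : Over.mk σ ⟶ A) {n : ℕ} (hn : 0 < n) : ∃ y : Over.mk σ ⟶ A, y ^ n = x := by
  let B : Over (Spec (CommRingCat.of Ω)) := (Over.pullback σ).obj A
  haveI : IsProper B.hom := MorphismProperty.pullback_snd A.hom σ inferInstance
  haveI : GeometricallyIntegral B.hom := MorphismProperty.pullback_snd A.hom σ inferInstance
  haveI : IsCommMonObj B := H25AbCube.isCommMonObj_of_av
  let P : Over (Spec (CommRingCat.of Ω)) := Over.mk (𝟙 (Spec (CommRingCat.of Ω)))
  let E := (Over.mapPullbackAdj σ).homEquiv P A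
  have hmul : ∀ a c : (Over.map σ).obj P ⟶ A, E (a * c) = E a * E c := fun a c => by
    rw [Adjunction.homEquiv_unit, Adjunction.homEquiv_unit, Adjunction.homEquiv_unit]
    exact (congrArg _ (map_mul (Functor.homMonoidHom (Over.pullback σ)) a c)).trans (MonObj.comp_mul _ _ _)
  let E' : ((Over.map σ).obj P ⟶ A) ≃* (P ⟶ B) := MulEquiv.mk E hmul
  let i : Over.mk σ ⟶ (Over.map σ).obj P := Over.homMk (𝟙 _) (by simp [P])
  let j : (Over.map σ).obj P ⟶ Over.mk σ := Over.homMk (𝟙 _) (by simp [P])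
  obtain ⟨b, hb⟩ := H25AbCube.exists_pow_eq hn (E' (j ≫ x))
  refine ⟨i ≫ E'.symm b, ?_⟩
  rw [← comp_pow_hom, ← map_pow, hb, MulEquiv.symm_apply_apply, ← Category.assoc,
    show i ≫ j = 𝟙 _ from Over.OverMorphism.ext (Category.id_comp _), Category.id_comp]

/-- Homomorphisms out of an abelian scheme with equal powers are equal. -/
theorem eq_of_pow_eq (f g : A ⟶ At) [IsMonHom f] [IsMonHom g] {n : ℕ} (hn : 0 < n) (h : f ^ n = g ^ n) :
    f = g := by
  refine div_eq_one.1 (eq_one_of_geom_points _ ?_ fun σ x => ?_)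
  · rw [GrpObj.comp_div, IsMonHom.one_hom f, IsMonHom.one_hom g, div_self']
  · obtain ⟨y, rfl⟩ := exists_pow_eq_geom σ x hn
    rw [GrpObj.comp_div, pow_comp_hom, pow_comp_hom, ← comp_pow_hom, ← comp_pow_hom, h, div_self']

variable {φ : AgPol.DualMap A At} (hφ : AbDual.IsDualAV Scheme.fppfPrecoverage A At φ)
  {u : PC (A ⊗ At).left} (hu : PZ A At u) (hu1 : Φ φ At u = 𝟙 At)
  (hu0 : ev u (lift (1 : At ⟶ A) (𝟙 At)) = 0)

include hφ hu hu1 hu0 in
theorem poincare_pow {T : Over S} (a : T ⟶ A) (b : T ⟶ At) :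
    ∀ n : ℕ, ev u (lift a (b ^ n)) = n • ev u (lift a b)
  | 0 => by rw [pow_zero, zero_smul, poincare_one_right hφ hu hu1 hu0]
  | n + 1 => by rw [pow_succ, poincare_add_right hφ hu hu1 hu0, poincare_pow a b n, succ_nsmul]

include hφ in
theorem Φ_nsmul {T : Over S} {w : PC (A ⊗ T).left} (hw : PZ A T w) :
    ∀ n : ℕ, PZ A T (n • w) ∧ Φ φ T (n • w) = Φ φ T w ^ n
  | 0 => ⟨by rw [zero_nsmul]; exact pz_zero, by rw [zero_nsmul, pow_zero]; exact Φ_zero hφ⟩
  | n + 1 => ⟨by rw [succ_nsmul]; exact pz_add (Φ_nsmul hw n).1 hw,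
      by rw [succ_nsmul, pow_succ, Φ_add hφ (Φ_nsmul hw n).1 hw, (Φ_nsmul hw n).2]⟩

include hφ hu hu1 hu0 in
/-- A polarisation is determined by the graph pullback of any positive multiple. -/
theorem eq_of_graph_eq {f g : A ⟶ At} (hf : AgPol.IsPolarization A At φ f) (hg : AgPol.IsPolarization A At φ g)
    {k : ℕ} (hk : 0 < k) (h : ev u (lift (𝟙 A) (f ^ k)) = ev u (lift (𝟙 A) (g ^ k))) : f = g := by
  haveI := hf.1
  haveI := hg.1
  rw [poincare_pow hφ hu hu1 hu0, poincare_pow hφ hu hu1 hu0] at h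
  have key : ∀ {m : A ⟶ At} [IsMonHom m], AgPol.IsPolarization A At φ m →
      k • (ev u (A ◁ m) + ev u (A ◁ m)) = ev (k • ev u (lift (𝟙 A) m)) μ[A] -
        ev (k • ev u (lift (𝟙 A) m)) (fst A A) - ev (k • ev u (lift (𝟙 A) m)) (snd A A) := fun {m} _ hm => by
    have he : ∀ {T W : Over S} (c : PC W.left) (p : T ⟶ W), ev (k • c) p = k • ev c p := fun c p => map_nsmul _ _ _
    rw [he, he, he, ← smul_sub, ← smul_sub,
      graph_theta hφ hu hu1 hu0 m (symm_of_polarization hφ hu hu1 hu0 hm)]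
    congr 1
    abel
  have h2 : (2 * k) • ev u (A ◁ f) = (2 * k) • ev u (A ◁ g) := by
    rw [two_mul, add_smul, add_smul, ← smul_add, ← smul_add, key hf, key hg, h]
  have h3 := congrArg (Φ φ A) h2
  rw [(Φ_nsmul hφ (pz_ev_left f hu) _).2, (Φ_nsmul hφ (pz_ev_left g hu) _).2, Φ_nat hφ f hu, Φ_nat hφ g hu, hu1,
    Category.comp_id, Category.comp_id] at h3
  exact eq_of_pow_eq f g (by omega) h3

end Groth.Agent.H26Dual
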